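import Cfsg.Agent.ClassSizeNM.PrimePow
import Cfsg.Agent.ClassSizeNM.Pure
import Cfsg.Agent.ClassSizeNM.Crossed

/-!
The end of the crossed case and the conclusion: a group with class sizes `1`, `n`, `m`, `n * m` for coprime
`n` and `m` is nilpotent.
-/

set_option autoImplicit false

namespace CfsgLib.ClassSizeNM

open CfsgLib.TwoSizes (cen mem_cen IsPElt center_le_cen le_of_forall_pElt)
open CfsgLib.CoprimeLargest (idx cls ncard_cls cls_conj idx_eq_one_iff idx_conj idx_dvd_of_le)
open CfsgLib.RankTwoClass (isPElt_conj isPElt_of_mem card_fact_add eq_one_of_conj_eq coprime_of_pElt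
  coprime_of_pElt_of_coprime)

variable {G : Type*} [Group G] [Finite G] {n m p q : ℕ}

/-- A `p`-element fixing a noncentral element of `O_q(G)` fixes all of it. -/
theorem Cross.semireg (C : Cross G n m p q) {v a : G} (hv : v ∈ Cfsg.pCore q G)
    (hvZ : v ∉ Subgroup.center G) (ha : IsPElt p a) (hva : Commute v a) :
    ∀ w ∈ Cfsg.pCore q G, Commute w a := by
  haveI := Fact.mk C.hq
  haveI hVn : (Cfsg.pCore q G).Normal := inferInstance
  have hel : ∀ {u : G}, u ∈ Cfsg.pCore q G → IsPElt q u := fun {u} hu =>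
    isPElt_of_mem CfsgLib.Constrained.isPGroup_pCore hu
  have hcon : ∀ {u : G}, u ∈ Cfsg.pCore q G → ∀ g k : G, k ∈ cen u → g * k * g⁻¹ ∈ cen u := by
    intro u hu g k hk
    have h1 : g * k * g⁻¹ * k⁻¹ ∈ cen u := by
      refine mem_cen.2 ?_
      have h2 := C.comm_mod g⁻¹ k⁻¹
      rw [inv_inv, inv_inv] at h2
      exact (Subgroup.mem_centralizer_iff.1 h2 u hu).symm
    simpa using (cen u).mul_mem h1 hk
  intro w hw
  by_contra hwa
  have hwZ : w ∉ Subgroup.center G := fun h =>
    hwa ((Subgroup.mem_center_iff.1 h a).symm : w * a = a * w)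
  set d := a * w * a⁻¹ * w⁻¹ with hd
  have hdV : d ∈ Cfsg.pCore q G := (Cfsg.pCore q G).mul_mem (hVn.conj_mem w hw a) (inv_mem hw)
  have hda : ¬ Commute a d := by
    intro hc
    have h1 : a * w * a⁻¹ = d * w := by rw [hd]; group
    have hd1 : d = 1 := eq_one_of_conj_eq h1 hc
      (CfsgLib.TwoSizes.isPElt_coprime C.hq C.hp C.toSetup.ne.symm (hel hdV) ha)
    rw [hd1, one_mul, mul_inv_eq_iff_eq_mul] at h1
    exact hwa h1.symm
  have hdZ : d ∉ Subgroup.center G := fun h => hda (Subgroup.mem_center_iff.1 h a : a * d = d * a)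
  have hle : ∀ u ∈ Cfsg.pCore q G, d = a * u * a⁻¹ * u⁻¹ → cen u ≤ cen d := by
    intro u hu hdu g hg
    have h1 : Commute (a⁻¹ * g * a) u := by
      simpa using mem_cen_iff_commute.1 (hcon hu a⁻¹ g hg)
    have h2 := conj_commute h1 a
    rw [show a * (a⁻¹ * g * a) * a⁻¹ = g by group] at h2
    rw [hdu]
    exact mem_cen_iff_commute.2 (h2.mul_right (mem_cen_iff_commute.1 hg).inv_right)
  have hvw : v * w ∈ Cfsg.pCore q G := mul_mem hv hw
  have hdvw : d = a * (v * w) * a⁻¹ * (v * w)⁻¹ := by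
    have hcomm : Commute v d := C.commute_core (hel hdV) hv
    calc d = v * d * v⁻¹ := by rw [hcomm.eq, mul_inv_cancel_right]
      _ = v * a * w * a⁻¹ * w⁻¹ * v⁻¹ := by rw [hd]; group
      _ = _ := by rw [hva.eq]; group
  have hvwZ : v * w ∉ Subgroup.center G := fun h => hda (mem_cen_iff_commute.1
    (hle _ hvw hdvw (mem_cen.2 (Subgroup.mem_center_iff.1 h a))))
  have hm : ∀ {u : G}, u ∈ Cfsg.pCore q G → u ∉ Subgroup.center G → idx u = m :=
    fun {u} hu huZ => C.all_m (hel hu) huZ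
  have e1 : cen w = cen d := cen_eq_of_idx (hle w hw hd) ((hm hw hwZ).trans (hm hdV hdZ).symm)
  have e2 : cen (v * w) = cen d := cen_eq_of_idx (hle _ hvw hdvw) ((hm hvw hvwZ).trans (hm hdV hdZ).symm)
  have e3 : cen w = cen v := cen_eq_of_idx (fun g hg => by
    have h1 : Commute g (v * w) := mem_cen_iff_commute.1 (e2.symm ▸ e1 ▸ hg)
    have h2 := h1.mul_right (mem_cen_iff_commute.1 hg).inv_right
    rw [mul_inv_cancel_right] at h2
    exact mem_cen_iff_commute.2 h2) ((hm hw hwZ).trans (hm hv hvZ).symm)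
  exact hwa (mem_cen_iff_commute.1 (e3.symm ▸ mem_cen_iff_commute.2 hva.symm : a ∈ cen w)).symm

theorem Cross.core_not_center (C : Cross G n m p q) : ¬ Cfsg.pCore q G ≤ Subgroup.center G := by
  intro hle
  haveI := Fact.mk C.hp
  haveI := Fact.mk C.hq
  have hpU : ∀ a : G, IsPElt p a → a ∈ Cfsg.pCore p G := fun a ha =>
    C.mem_core ha fun v hv => (Subgroup.mem_center_iff.1 (hle hv) a).symm
  obtain ⟨y, hyq, hy⟩ := C.exists_y
  obtain ⟨a, ha, hap, haZ⟩ := C.mix (.inl hy)
  exact C.H.not_center_m hy (hle (C.symm.mem_core hyq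
    (C.symm.semireg (hpU a hap) haZ hyq (mem_cen_iff_commute.1 ha))))

theorem Cross.card_core (C : Cross G n m p q) :
    ∃ e : ℕ, Nat.card (Cfsg.pCore q G) = q ^ e ∧
      e + n.factorization q = (Nat.card G).factorization q := by
  haveI := Fact.mk C.hp
  haveI := Fact.mk C.hq
  obtain ⟨x, hx, hxZ⟩ := SetLike.not_le_iff_exists.1 C.symm.core_not_center
  have hxp : IsPElt p x := isPElt_of_mem CfsgLib.Constrained.isPGroup_pCore hx
  obtain ⟨T, hT⟩ := exists_full (s := q) (cen x)
  have hTV : T ≤ Cfsg.pCore q G := fun t ht =>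
    C.symm.mem_core (isPElt_of_mem hT.pgroup ht) (C.symm.semireg hx hxZ (isPElt_of_mem hT.pgroup ht)
      (mem_cen_iff_commute.1 (hT.le ht)).symm)
  have hVx : Cfsg.pCore q G ≤ cen x := fun v hv => mem_cen.2
    (CfsgLib.Cores.commute_pCore_pCore C.toSetup.ne hx hv).symm
  have e := hT.eq_of_le CfsgLib.Constrained.isPGroup_pCore hVx hTV
  refine ⟨(Nat.card (cen x)).factorization q, e ▸ hT.card, ?_⟩
  have h1 := card_fact_add x q
  rw [C.all_n hxp hxZ] at h1
  exact h1

theorem Cross.lt (C : Cross G n m p q) : m < n := by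
  classical
  haveI := Fact.mk C.hp
  haveI := Fact.mk C.hq
  haveI hVn : (Cfsg.pCore q G).Normal := inferInstance
  set V := Cfsg.pCore q G with hV
  obtain ⟨v₀, hv₀, hv₀Z⟩ := SetLike.not_le_iff_exists.1 C.core_not_center
  have hVq : IsPGroup q V := CfsgLib.Constrained.isPGroup_pCore
  -- a `p`-element outside `O_p(G)`
  obtain ⟨h, hhp, hhU⟩ : ∃ h : G, IsPElt p h ∧ h ∉ Cfsg.pCore p G := by
    by_contra hno
    push Not at hno
    obtain ⟨P⟩ : Nonempty (Sylow p G) := inferInstance
    have hle : (P : Subgroup G) ≤ cen v₀ := fun u hu => mem_cen.2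
      (CfsgLib.Cores.commute_pCore_pCore C.toSetup.ne (hno u (isPElt_of_mem P.isPGroup' hu)) hv₀)
    refine P.not_dvd_index (C.pm.trans ?_)
    rw [← C.all_m (isPElt_of_mem hVq hv₀) hv₀Z]
    exact Subgroup.index_dvd_of_le hle
  have hhZ : h ∉ Subgroup.center G := fun hz =>
    hhU (C.mem_core hhp fun v _ => (Subgroup.mem_center_iff.1 hz v : v * h = h * v))
  obtain ⟨R, hR⟩ := exists_full (s := q) (cen h)
  obtain ⟨Q, hQ, hRQ⟩ := Full.exists_le (K := (⊤ : Subgroup G)) hR.pgroup le_top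
  have hVQ : V ≤ Q := fun v hv => hQ.normal_le hVq ⟨hv, Subgroup.mem_top v⟩
  obtain ⟨e, he, hen⟩ := C.card_core
  have hRcard : Nat.card R = Nat.card V := by
    rw [hR.card, he]
    congr 1
    have h1 := card_fact_add h q
    rw [C.all_n hhp hhZ] at h1
    omega
  have hRV : R ⊓ V ≤ V ⊓ Subgroup.center G := fun v hv => ⟨hv.2, by
    by_contra hvZ
    exact hhU (C.mem_core hhp (C.semireg hv.2 hvZ hhp (mem_cen_iff_commute.1 (hR.le hv.1))))⟩
  have hQcard : Nat.card Q = Nat.card V * n := by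
    rw [hQ.card, Subgroup.card_top, he, ← hen, pow_add, ← C.toSetup.n_eq]
  set z := Nat.card (V ⊓ Subgroup.center G : Subgroup G) with hz
  have hmain : Nat.card V ≤ n * z := by
    have h1 := CfsgLib.TwoRegular.card_sup_mul_card_inf R V
    have h2 := Subgroup.card_le_of_le (sup_le hRQ hVQ)
    have h3 := Subgroup.card_le_of_le hRV
    have h4 : Nat.card V * Nat.card V ≤ Nat.card V * (n * z) := by
      calc Nat.card V * Nat.card V = Nat.card (R ⊔ V : Subgroup G) * Nat.card (R ⊓ V : Subgroup G) := by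
            rw [h1, hRcard]
        _ ≤ Nat.card V * n * z := Nat.mul_le_mul (hQcard ▸ h2) h3
        _ = _ := mul_assoc _ _ _
    exact Nat.le_of_mul_le_mul_left h4 Nat.card_pos
  -- the noncentral elements of `V` fall into classes of size `m`
  haveI := Fintype.ofFinite G
  set S := Finset.univ.filter (fun v : G => v ∈ V ∧ v ∉ Subgroup.center G) with hS
  have hdvd : m ∣ S.card := by
    rw [Finset.card_eq_sum_card_fiberwise (t := S.image cls) (f := cls)
      (fun g hg => Finset.mem_coe.2 (Finset.mem_image_of_mem _ hg))]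
    refine Finset.dvd_sum fun D hD => ?_
    obtain ⟨v, hv, rfl⟩ := Finset.mem_image.1 hD
    simp only [hS, Finset.mem_filter, Finset.mem_univ, true_and] at hv
    have e : S.filter (fun u => cls u = cls v) = (cls v).toFinset := by
      ext u
      simp only [hS, Finset.mem_filter, Finset.mem_univ, true_and, Set.mem_toFinset]
      constructor
      · rintro ⟨-, hu⟩
        rw [← hu]; exact ⟨1, by simp⟩
      · rintro ⟨g, rfl⟩
        exact ⟨⟨hVn.conj_mem v hv.1 g, conj_not_center g hv.2⟩, cls_conj v g⟩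
    rw [e, ← Set.ncard_eq_toFinset_card', ncard_cls, C.all_m (isPElt_of_mem hVq hv.1) hv.2]
  have hScard : S.card + z = Nat.card V := by
    have e : (S : Set G) = (V : Set G) \ ((V ⊓ Subgroup.center G : Subgroup G) : Set G) := by
      ext u
      simp only [hS, Finset.coe_filter, Finset.mem_univ, true_and, Set.mem_setOf_eq, Set.mem_diff,
        SetLike.mem_coe, Subgroup.mem_inf]
      tauto
    rw [← Set.ncard_coe_finset, e, hz]
    show _ + Nat.card ((V ⊓ Subgroup.center G : Subgroup G) : Set G) = Nat.card (V : Set G)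
    rw [Nat.card_coe_set_eq, Nat.card_coe_set_eq]
    exact Set.ncard_diff_add_ncard_of_subset (Set.inter_subset_left) (Set.toFinite _)
  have hSpos : 0 < S.card := Finset.card_pos.2 ⟨v₀, Finset.mem_filter.2 ⟨Finset.mem_univ _, hv₀, hv₀Z⟩⟩
  obtain ⟨k, hk⟩ : z ∣ Nat.card V := Subgroup.card_dvd_of_le inf_le_left
  have hzcop : m.Coprime z := by
    obtain ⟨i, hi⟩ := IsPGroup.iff_card.1 (hVq.to_le (inf_le_left : V ⊓ Subgroup.center G ≤ V))
    rw [hz, hi]
    exact Nat.Coprime.pow_right i (C.hq.coprime_iff_not_dvd.2 C.toSetup.not_q_m).symm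
  have hzpos : 0 < z := Nat.card_pos
  have hSk : S.card = z * (k - 1) := by rw [Nat.mul_sub_one, ← hk]; omega
  have h5 := hzcop.dvd_of_dvd_mul_left (hSk ▸ hdvd)
  have hk1 : 0 < k - 1 := Nat.pos_of_mul_pos_left (hSk ▸ hSpos : 0 < z * (k - 1))
  have hkn : k ≤ n := Nat.le_of_mul_le_mul_left (by rw [← hk, mul_comm z n]; exact hmain) hzpos
  have := Nat.le_of_dvd hk1 h5
  omega

/-- The main theorem. -/
theorem Hyp.main (H : Hyp G n m) : Group.IsNilpotent G ∧ IsPrimePow n ∧ IsPrimePow m := by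
  classical
  have hn := H.symm.isPrimePow_m
  have hm := H.isPrimePow_m
  refine ⟨?_, hn, hm⟩
  obtain ⟨q, c, hq, hc, rfl⟩ := (isPrimePow_nat_iff n).1 hn
  obtain ⟨p, b, hp, hb, rfl⟩ := (isPrimePow_nat_iff m).1 hm
  have S : Setup G (q ^ c) (p ^ b) p q :=
    ⟨H, hp, hq, dvd_pow_self p hb.ne', dvd_pow_self q hc.ne',
      fun s hs h => (Nat.prime_dvd_prime_iff_eq hs hp).1 (hs.dvd_of_dvd_pow h),
      fun s hs h => (Nat.prime_dvd_prime_iff_eq hs hq).1 (hs.dvd_of_dvd_pow h)⟩
  obtain ⟨t, x, ht, hxt, hx⟩ := H.exists_primary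
  obtain ⟨t', y, ht', hyt, hy⟩ := H.symm.exists_primary
  have hxpq : t = p ∨ t = q := by
    by_contra h
    push Not at h
    exact H.not_center_n hx (S.central ht h.1 h.2 hxt)
  have hypq : t' = p ∨ t' = q := by
    by_contra h
    push Not at h
    exact H.not_center_m hy (S.central ht' h.1 h.2 hyt)
  rcases hxpq with rfl | rfl
  · rcases hypq with rfl | rfl
    · exact (S.same_prime hxt hyt hx hy).elim
    · exfalso
      have C : Cross G (t' ^ c) (t ^ b) t t' :=
        ⟨S, fun w hw e => S.same_prime hxt hw hx e, fun w hw e => S.symm.same_prime hyt hw hy e,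
          ⟨x, hxt, hx⟩, ⟨y, hyt, hy⟩⟩
      have h1 := C.lt
      have h2 := C.symm.lt
      omega
  · rcases hypq with rfl | rfl
    · refine (Group.isNilpotent_of_finite_tfae.out 0 3 rfl rfl).2 fun s hs P => ?_
      by_cases hsp : s = t'
      · subst hsp
        exact S.pure_normal hxt hx (fun w hw e => S.same_prime hw hyt e hy) P
      by_cases hsq : s = t
      · subst hsq
        exact S.symm.pure_normal hyt hy (fun w hw e => S.symm.same_prime hw hxt e hx) P
      refine ⟨fun v hv g => ?_⟩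
      rw [Subgroup.mem_center_iff.1 (S.central hs.out hsp hsq (isPElt_of_mem P.isPGroup' hv)) g,
        mul_inv_cancel_right]
      exact hv
    · exact (S.symm.same_prime hyt hxt hy hx).elim

end CfsgLib.ClassSizeNM
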