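import Cfsg.Agent.ClassSizeNM.Basic
import Cfsg.Agent.S4033

/-!
If the class sizes are `1`, `n`, `m` and `n * m` with coprime `n` and `m`, then `m` is a prime power.

For an element `x` of prime power order with class size `n` the classes in `C(x)` of elements of order prime
to that prime have two sizes, which leaves very little room for the centraliser.
-/

set_option autoImplicit false

namespace CfsgLib.ClassSizeNM

open CfsgLib.TwoSizes (cen mem_cen IsPElt center_le_cen le_of_forall_pElt)
open CfsgLib.CoprimeLargest (idx idx_ne_zero idx_eq_one_iff idx_conj idx_dvd_of_le)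
open CfsgLib.RankTwoClass (isPElt_conj cen_mul_eq_inf coprime_of_pElt coprime_of_pElt_of_coprime)

variable {G : Type*} [Group G] [Finite G] {n m : ℕ} (H : Hyp G n m)
include H

/-- The possibilities for the centraliser of a `t`-element of class size `n`. -/
theorem Hyp.dich {t : ℕ} (ht : t.Prime) {x : G} (hxt : IsPElt t x) (hxn : idx x = n) :
    (∀ w ∈ cen x, (orderOf w).Coprime t → ∀ g ∈ cen x, Commute w g) ∨
    (∀ s : ℕ, s.Prime → s ∣ m → s = t) ∨
    ∃ r : ℕ, r.Prime ∧ r ≠ t ∧ (∀ s : ℕ, s.Prime → s ∣ m → s = t ∨ s = r) ∧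
      ∀ s : ℕ, s.Prime → s ≠ t → s ≠ r → ∀ u ∈ cen x, IsPElt s u → ∀ g ∈ cen x, Commute u g := by
  classical
  refine or_iff_not_imp_left.2 fun hI => ?_
  push Not at hI
  obtain ⟨w, hw, hwt, g₀, hg₀, hwg⟩ := hI
  haveI := Fact.mk ht
  have hn0 : 0 < n := Nat.lt_of_succ_lt H.one_lt_n
  let K : Subgroup G := cen x
  have hKidx : K.index = n := hxn
  let rel : K → ℕ := fun g => (cen (g : G)).relIndex K
  have hrel : ∀ g : K, (Subgroup.centralizer ({g} : Set K)).index = rel g := fun g => by
    show _ = ((cen (g : G)).subgroupOf K).index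
    congr 1
    ext v
    rw [Subgroup.mem_centralizer_singleton_iff, Subgroup.mem_subgroupOf, mem_cen, Subtype.ext_iff]
    rfl
  have hrel1 : ∀ g : K, rel g = 1 → ∀ v ∈ K, Commute (g : G) v := fun g hg v hv =>
    (mem_cen_iff_commute.1 (Subgroup.relIndex_eq_one.1 hg hv)).symm
  have hsize : ∀ g : K, (orderOf g).Coprime t → rel g = 1 ∨ rel g = m := by
    intro g hg
    have hg' : (orderOf (g : G)).Coprime t := by rwa [Subgroup.orderOf_coe]
    have hc : Commute x (g : G) := (mem_cen_iff_commute.1 g.2).symm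
    have hcop : (orderOf x).Coprime (orderOf (g : G)) := coprime_of_pElt_of_coprime ht hxt hg'
    have e : idx (x * (g : G)) = rel g * n := by
      show (cen (x * (g : G))).index = _
      rw [cen_mul_eq_inf hc hcop, ← hKidx, inf_comm, ← Subgroup.relIndex_mul_index
        (inf_le_right : cen (g : G) ⊓ K ≤ K), Subgroup.inf_relIndex_right]
    rcases H.mem_of_dvd (g := x * (g : G)) (e ▸ dvd_mul_left n _) with h1 | h1 <;> rw [e] at h1
    · exact .inl (Nat.eq_of_mul_eq_mul_right hn0 (by rw [h1, one_mul]))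
    · exact .inr (Nat.eq_of_mul_eq_mul_right hn0 (by rw [h1, mul_comm]))
  have hwK : (orderOf (⟨w, hw⟩ : K)).Coprime t := by
    rw [← Subgroup.orderOf_coe]; exact hwt
  have hwm : rel ⟨w, hw⟩ = m := (hsize _ hwK).resolve_left fun h1 => hwg (hrel1 _ h1 g₀ hg₀)
  have h1mem : (orderOf (1 : K)).Coprime t := by simp
  have h1rel : rel 1 = 1 := Subgroup.relIndex_eq_one.2 fun v _ =>
    mem_cen.2 (by simp)
  have hrange : Set.range (fun g : {g : K // (orderOf g).Coprime t} =>
      (ConjClasses.mk (g : K)).carrier.ncard) = ({1, m} : Set ℕ) := by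
    ext k
    simp only [Set.mem_range, CfsgLib.PCompl.carrier_ncard, Set.mem_insert_iff, Set.mem_singleton_iff, hrel]
    constructor
    · rintro ⟨g, rfl⟩; exact hsize g g.2
    · rintro (rfl | rfl)
      · exact ⟨⟨1, h1mem⟩, h1rel⟩
      · exact ⟨⟨⟨w, hw⟩, hwK⟩, hwm⟩
  have h2 := Cfsg.Agent.S4033.result (G := K) ht (by
    rw [hrange, Set.ncard_pair (Nat.ne_of_lt H.one_lt_m)])
  rcases h2 with ⟨L, hLc, hLt, k, hk⟩ | ⟨q, hq, P, Q, A, hqt, hA, hcard, hN, hinf, hsup⟩
  · refine .inl fun s hs hsm => ?_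
    obtain ⟨h, hhL, hhm⟩ : ∃ h ∈ L, rel h = m := by
      by_contra hno
      push Not at hno
      have hLZ : L ≤ Subgroup.center K := by
        intro h hh
        have ho : (orderOf h).Coprime t := (ht.coprime_iff_not_dvd.2 fun hd =>
          hLt (hd.trans (L.orderOf_dvd_natCard hh))).symm
        exact Subgroup.mem_center_iff.2 fun v => Subtype.ext
          (hrel1 h ((hsize h ho).resolve_right (hno h hh)) v v.2).eq.symm
      haveI : L.Normal := ⟨fun a ha b => by
        rw [Subgroup.mem_center_iff.1 (hLZ ha) b, mul_inv_cancel_right]; exact ha⟩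
      have h3 : (⟨w, hw⟩ : K) ^ t ^ k ∈ L := hk ▸ L.pow_index_mem _
      obtain ⟨j, hj⟩ := exists_pow_eq_self_of_coprime (Nat.Coprime.pow_left k hwK.symm)
      have h4 : (⟨w, hw⟩ : K) ∈ Subgroup.center K := hj ▸ pow_mem (hLZ h3) j
      exact hwg (congrArg Subtype.val (Subgroup.mem_center_iff.1 h4 ⟨g₀, hg₀⟩).symm)
    have hLle : L ≤ Subgroup.centralizer ({h} : Set K) := fun v hv =>
      Subgroup.mem_centralizer_singleton_iff.2
        (congrArg Subtype.val (hLc.is_comm.comm ⟨v, hv⟩ ⟨h, hhL⟩))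
    have h3 := Subgroup.index_dvd_of_le hLle
    rw [hrel, hhm, hk] at h3
    exact (Nat.prime_dvd_prime_iff_eq hs ht).1 (hs.dvd_of_dvd_pow (hsm.trans h3))
  · haveI := hq
    haveI := hN
    haveI hAn : A.Normal := ⟨fun a ha b => by
      rw [Subgroup.mem_center_iff.1 (hA ha) b, mul_inv_cancel_right]; exact ha⟩
    set N := (P : Subgroup K) ⊔ (Q : Subgroup K) with hNdef
    have hAidx : A.index = t ^ (Nat.card K).factorization t * q ^ (Nat.card K).factorization q := by
      rw [← Subgroup.relIndex_top_right, ← hsup, sup_comm, Subgroup.relIndex_sup_left,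
        ← Subgroup.inf_relIndex_right, inf_comm, hinf, Subgroup.relIndex_bot_left, hcard,
        P.card_eq_multiplicity, Q.card_eq_multiplicity]
    refine .inr ⟨q, hq.out, hqt, fun s hs hsm => ?_, fun s hs hst hsq u hu hus g hg => ?_⟩
    · have h3 : m ∣ A.index := by
        rw [← hwm, ← hrel]
        exact Subgroup.index_dvd_of_le fun a ha => Subgroup.mem_centralizer_singleton_iff.2
          (Subgroup.mem_center_iff.1 (hA ha) _).symm
      rw [hAidx] at h3
      rcases hs.dvd_mul.1 (hsm.trans h3) with h | h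
      · exact .inl ((Nat.prime_dvd_prime_iff_eq hs ht).1 (hs.dvd_of_dvd_pow h))
      · exact .inr ((Nat.prime_dvd_prime_iff_eq hs hq.out).1 (hs.dvd_of_dvd_pow h))
    · have huK : (orderOf (⟨u, hu⟩ : K)).Coprime A.index := by
        rw [← Subgroup.orderOf_coe, hAidx]
        exact ((coprime_of_pElt ht hs hst hus).pow_right _).mul_right
          ((coprime_of_pElt hq.out hs hsq hus).pow_right _)
      have h3 : (⟨u, hu⟩ : K) ^ A.index ∈ A := A.pow_index_mem _
      obtain ⟨j, hj⟩ := exists_pow_eq_self_of_coprime huK.symm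
      have h4 : (⟨u, hu⟩ : K) ∈ Subgroup.center K := hj ▸ pow_mem (hA h3) j
      exact congrArg Subtype.val (Subgroup.mem_center_iff.1 h4 ⟨g, hg⟩).symm

/-- Elements of a second prime dividing `n` are central in the centraliser. -/
theorem Hyp.central_other {t e : ℕ} (ht : t.Prime) (he : e.Prime) (htn : t ∣ n) (hen : e ∣ n) (het : e ≠ t)
    {x : G} (hxt : IsPElt t x) (hxn : idx x = n) {u : G} (hu : u ∈ cen x) (hue : IsPElt e u) :
    cen x ≤ cen u := by
  have := H.one_lt_m
  obtain ⟨s, hs, hsm⟩ := Nat.exists_prime_and_dvd (show m ≠ 1 by omega)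
  have hst : s ≠ t := fun h => H.not_dvd_m ht htn (h ▸ hsm)
  intro g hg
  refine mem_cen_iff_commute.2 ?_
  rcases H.dich ht hxt hxn with h | h | ⟨r, hr, -, hm', hc⟩
  · exact (h u hu (coprime_of_pElt ht he het hue) g hg).symm
  · exact absurd (h s hs hsm) hst
  · have hsr := (hm' s hs hsm).resolve_left hst
    have her : e ≠ r := fun h => H.not_dvd_m he hen (by rw [h, ← hsr]; exact hsm)
    exact (hc e he het her u hu hue g hg).symm

/-- When all elements of order prime to `t` are central in `C(x)`, no class size of an element of `C(x)` is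
divisible by a prime `q ≠ t` of `m`. -/
theorem Hyp.idx_of_central {t : ℕ} {x : G} (hxn : idx x = n)
    (hI : ∀ w ∈ cen x, (orderOf w).Coprime t → ∀ g ∈ cen x, Commute w g) {q : ℕ} (hq : q.Prime)
    (ht : t.Prime) (hqm : q ∣ m) (hqt : q ≠ t) {g : G} (hg : g ∈ cen x) : idx g = 1 ∨ idx g = n := by
  haveI := Fact.mk hq
  obtain ⟨S, hS⟩ := CfsgLib.ClassSizes.exists_sylow_le_of_not_dvd_index (cen x)
    (show ¬ q ∣ idx x by rw [hxn]; exact H.symm.not_dvd_m hq hqm)
  have hSg : (S : Subgroup G) ≤ cen g := fun v hv => mem_cen_iff_commute.2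
    (hI v (hS hv) (coprime_of_pElt ht hq hqt (CfsgLib.RankTwoClass.isPElt_of_mem S.isPGroup' hv)) g hg)
  have hnd : ¬ q ∣ idx g := fun hd => S.not_dvd_index (hd.trans (Subgroup.index_dvd_of_le hSg))
  rcases H.mem g with e | e | e | e
  · exact .inl e
  · exact .inr e
  · exact absurd (e ▸ hqm) hnd
  · exact absurd (e ▸ hqm.mul_left n) hnd

/-- `m` is a prime power. -/
theorem Hyp.isPrimePow_m : IsPrimePow m := by
  classical
  have hm1 := H.one_lt_m
  by_contra hpp
  have hnp : ∀ t : ℕ, ∃ q : ℕ, q.Prime ∧ q ∣ m ∧ q ≠ t := by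
    intro t
    by_contra hno
    push Not at hno
    obtain ⟨q, hq, hqm⟩ := Nat.exists_prime_and_dvd (show m ≠ 1 by omega)
    have e := hno q hq hqm
    have hm : m = t ^ m.primeFactorsList.length :=
      Nat.eq_prime_pow_of_unique_prime_dvd (by omega) fun {d} hd hdm => hno d hd hdm
    exact hpp (hm ▸ (e ▸ hq).isPrimePow.pow (by
      intro h0; rw [h0, pow_zero] at hm; omega))
  obtain ⟨y, hy⟩ := H.exists_m
  by_cases hall : ∀ t : ℕ, ∀ x : G, t.Prime → IsPElt t x → idx x = n →
      ∀ w ∈ cen x, (orderOf w).Coprime t → ∀ g ∈ cen x, Commute w g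
  · -- all centralisers have central complements
    have hin : ∀ t : ℕ, ∀ x : G, t.Prime → IsPElt t x → idx x = n → ∀ g ∈ cen x, idx g = 1 ∨ idx g = n := by
      intro t x ht hxt hxn g hg
      obtain ⟨q, hq, hqm, hqt⟩ := hnp t
      exact H.idx_of_central hxn (hall t x ht hxt hxn) hq ht hqm hqt hg
    obtain ⟨t, x, ht, hxt, hxn⟩ := H.exists_primary
    have hNo : ∀ s : ℕ, s.Prime → s ∣ n → NoS s x := by
      intro s hs hsn u hu hus
      by_contra huZ
      have hun : idx u = n := (hin t x ht hxt hxn u hu).resolve_left fun e => huZ ((idx_eq_one_iff u).1 e)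
      haveI := Fact.mk hs
      obtain ⟨c, hc⟩ := exists_conj_mem_of_not_dvd (x := y) (show ¬ s ∣ idx y by
        rw [hy]; exact H.not_dvd_m hs hsn) hus
      have hy' : y ∈ cen (c * u * c⁻¹) := mem_cen_iff_commute.2 (mem_cen_iff_commute.1 hc).symm
      rcases hin s _ hs (isPElt_conj hus c) (by rw [idx_conj]; exact hun) y hy' with e | e
      · exact H.not_center_m hy ((idx_eq_one_iff y).1 e)
      · exact H.n_ne_m (e.symm.trans hy)
    obtain ⟨g, hg⟩ := H.exists_nm
    refine H.not_center_nm hg (le_of_forall_pElt (K := Subgroup.zpowers g) (fun s hs v hv hvs => ?_)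
      (Subgroup.mem_zpowers g))
    by_contra hvZ
    haveI := Fact.mk hs
    by_cases hsn : s ∣ n
    · exact hvZ (noS_transfer (by rw [hg, hxn, (H.fact_mul hs hsn).2]) (hNo s hs hsn) v
        (zpowers_le_cen hv) hvs)
    · obtain ⟨c, hc⟩ := exists_conj_mem_of_not_dvd (x := x) (show ¬ s ∣ idx x by rw [hxn]; exact hsn) hvs
      have hvn : idx v = n := by
        rcases hin t x ht hxt hxn _ hc with e | e <;> rw [idx_conj] at e
        · exact absurd ((idx_eq_one_iff v).1 e) hvZ
        · exact e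
      have hgv : g ∈ cen v := mem_cen_iff_commute.2 (mem_cen_iff_commute.1 (zpowers_le_cen hv)).symm
      rcases hin s v hs hvs hvn g hgv with e | e
      · exact H.not_center_nm hg ((idx_eq_one_iff g).1 e)
      · rw [hg] at e
        have := H.one_lt_n
        nlinarith
  · push Not at hall
    obtain ⟨t, x, ht, hxt, hxn, w, hw, hwt, g₀, hg₀, hwg⟩ := hall
    rcases H.dich ht hxt hxn with hI | h1 | ⟨r, hr, hrt, hm', hc⟩
    · exact hwg (hI w hw hwt g₀ hg₀)
    · obtain ⟨q, hq, hqm, hqt⟩ := hnp t; exact hqt (h1 q hq hqm)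
    have htm : t ∣ m := by
      obtain ⟨q, hq, hqm, hqr⟩ := hnp r
      exact ((hm' q hq hqm).resolve_right hqr) ▸ hqm
    have hrm : r ∣ m := by
      obtain ⟨q, hq, hqm, hqt⟩ := hnp t
      exact ((hm' q hq hqm).resolve_left hqt) ▸ hqm
    haveI := Fact.mk hr
    -- a noncentral `r`-element of `C(x)`
    have hwit : ∃ v ∈ cen x, IsPElt r v ∧ ¬ ∀ g ∈ cen x, Commute v g := by
      by_contra hno
      push Not at hno
      refine hwg ?_
      have hle : Subgroup.zpowers w ≤ Subgroup.centralizer (cen x : Set G) := by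
        refine le_of_forall_pElt fun e he v hv hve => Subgroup.mem_centralizer_iff.2 fun g hg => ?_
        have hvx : v ∈ cen x := (Subgroup.zpowers_le.2 hw) hv
        by_cases het : e = t
        · subst het
          rw [CfsgLib.RankTwoClass.eq_one_of_pElt_coprime he hve
            (hwt.coprime_dvd_left (orderOf_dvd_of_mem_zpowers hv))]
          simp
        by_cases her : e = r
        · subst her
          exact (hno v hvx hve g hg).eq.symm
        · exact (hc e he het her v hvx hve g hg).eq.symm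
      exact (Subgroup.mem_centralizer_iff.1 (hle (Subgroup.mem_zpowers w)) g₀ hg₀).symm
    obtain ⟨v₀, hv₀, hv₀r, hv₀c⟩ := hwit
    have hNo : ∀ s : ℕ, s.Prime → s ∣ n → NoS s x := by
      intro s hs hsn u hu hus
      by_contra huZ
      have hst : s ≠ t := fun e => H.not_dvd_m hs hsn (e ▸ htm)
      have hsr : s ≠ r := fun e => H.not_dvd_m hs hsn (e ▸ hrm)
      have hle : cen x ≤ cen u := fun g hg =>
        mem_cen_iff_commute.2 (hc s hs hst hsr u hu hus g hg).symm
      obtain ⟨hun, heq⟩ := H.cen_eq_n hxn huZ hle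
      rcases H.dich hs hus hun with h | h | ⟨r', hr', -, hm'', -⟩
      · exact hv₀c fun g hg => h v₀ (heq ▸ hv₀) (coprime_of_pElt hs hr (Ne.symm hsr) hv₀r) g (heq ▸ hg)
      · exact hst (h t ht htm).symm
      · exact hrt (((hm'' r hr hrm).resolve_left (Ne.symm hsr)).trans
          ((hm'' t ht htm).resolve_left (Ne.symm hst)).symm)
    -- an element of class size `n * m` with a noncentral `r`-part
    have hco : Commute x v₀ := (mem_cen_iff_commute.1 hv₀).symm
    have hcop : (orderOf x).Coprime (orderOf v₀) :=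
      coprime_of_pElt_of_coprime ht hxt (coprime_of_pElt ht hr hrt hv₀r)
    have hxv : idx (x * v₀) = n * m := by
      refine (H.mem_of_dvd ?_).resolve_left fun e => hv₀c fun g hg => ?_
      · rw [← hxn]
        exact idx_dvd_of_le (CfsgLib.TwoSizes.cen_mul_le hco hcop)
      · have h1 := cen_eq_of_idx (CfsgLib.TwoSizes.cen_mul_le hco hcop) (e.trans hxn.symm)
        rw [cen_mul_eq_inf hco hcop] at h1
        have hg' : g ∈ cen x ⊓ cen v₀ := by rw [h1]; exact hg
        exact (mem_cen_iff_commute.1 hg'.2).symm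
    have hv₀Z : v₀ ∉ Subgroup.center G := fun h =>
      hv₀c fun g _ => ((Subgroup.mem_center_iff.1 h g).symm : v₀ * g = g * v₀)
    have hv₀xv : v₀ ∈ cen (x * v₀) := mem_cen_iff_commute.2 (hco.symm.mul_right (Commute.refl v₀))
    have hr_exists : ∀ g : G, idx g = m → ∃ v ∈ cen g, IsPElt r v ∧ v ∉ Subgroup.center G := by
      intro g hg
      by_contra hno
      push Not at hno
      exact hv₀Z (noS_transfer (by rw [hxv, hg, mul_comm, (H.symm.fact_mul hr hrm).2]) hno v₀ hv₀xv hv₀r)
    -- an `r`-element of class size `m`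
    obtain ⟨w₁, hw₁r, hw₁⟩ : ∃ w₁ : G, IsPElt r w₁ ∧ idx w₁ = m := by
      obtain ⟨t', y', ht', hy't, hy'm⟩ := H.symm.exists_primary
      obtain ⟨v, hv, hvr, hvZ⟩ := hr_exists y' hy'm
      haveI := Fact.mk ht'
      by_cases ht'n : t' ∣ n
      · refine ⟨v, hvr, ?_⟩
        have hyv : y' ∈ cen v := mem_cen_iff_commute.2 (mem_cen_iff_commute.1 hv).symm
        rcases H.mem v with e | e | e | e
        · exact absurd ((idx_eq_one_iff v).1 e) hvZ
        · exact absurd (noS_transfer (by rw [e, hxn]) (hNo t' ht' ht'n) y' hyv hy't) (H.not_center_m hy'm)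
        · exact e
        · exact absurd (noS_transfer (by rw [e, hxn, (H.fact_mul ht' ht'n).2]) (hNo t' ht' ht'n) y' hyv hy't)
            (H.not_center_m hy'm)
      · by_cases hrt' : r = t'
        · exact ⟨y', hrt' ▸ hy't, hy'm⟩
        · have ht'm : t' ∣ m := by
            by_contra h
            exact H.not_center_m hy'm (H.central_of_not_dvd ht' (fun hd =>
              (ht'.dvd_mul.1 hd).elim ht'n h) hy't)
          exact ⟨v, hvr, (H.symm.cen_eq_n hy'm hvZ
            (H.symm.central_other ht' hr ht'm hrm hrt' hy't hy'm hv hvr)).1⟩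
    obtain ⟨c, hc'⟩ := exists_conj_mem_of_not_dvd (x := x) (show ¬ r ∣ idx x by
      rw [hxn]; exact H.symm.not_dvd_m hr hrm) hw₁r
    have hx' : x ∈ cen (c * w₁ * c⁻¹) := mem_cen_iff_commute.2 (mem_cen_iff_commute.1 hc').symm
    have hw₁' : idx (c * w₁ * c⁻¹) = m := by rw [idx_conj]; exact hw₁
    have h1 := (H.symm.cen_eq_n hw₁' (H.not_center_n hxn)
      (H.symm.central_other hr ht hrm htm (Ne.symm hrt) (isPElt_conj hw₁r c) hw₁' hx' hxt)).1
    exact H.n_ne_m (hxn.symm.trans h1)

end CfsgLib.ClassSizeNM
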